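import Groth.Agent.SpLimit.Charts
import Groth.Agent.AlgSp3.SchImage
import Groth.Agent.AlgSp3.SubSheaf
import Groth.Agent.AlgSp2.AffineCriteria
import Groth.Agent.AlgSp2.FpqcRep
import Groth.Agent.AlgSpBasic.Immersion
import Groth.Agent.AlgSpBasic.QComp
import Groth.Agent.AlgSpBasic.Compact
import Groth.Agent.AlgSpBasic.LocP

/-!
# The space of a good diagram is the limit of its scheme theoretic images
-/

set_option autoImplicit false
set_option backward.isDefEq.respectTransparency.types false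
set_option linter.unusedSectionVars false
universe u

open CategoryTheory CategoryTheory.Limits AlgebraicGeometry Opposite AlgSp

namespace Groth.AlgSp2.GoodDiagram

open Groth.AlgSpBasic Groth.AlgSp2 Groth.SpLimit

noncomputable section

variable {S : Scheme.{u}}

/-- A map to an affine scheme factors through a closed immersion from an affine scheme if it kills
the functions which vanish on the subscheme. -/
theorem exists_lift_of_appTop {V L T : Scheme.{u}} [IsAffine L] (v : V ⟶ L) [IsClosedImmersion v]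
    (m : T ⟶ L) (h : ∀ f : Γ(L, ⊤), v.appTop f = 0 → m.appTop f = 0) : ∃ c : T ⟶ V, c ≫ v = m := by
  have : IsAffine V := isAffine_of_isAffineHom v
  have hs : Function.Surjective v.appTop.hom :=
    ((IsClosedImmersion.isAffine_surjective_of_isAffine v).2)
  let φ : Γ(V, ⊤) →+* Γ(T, ⊤) := RingHom.liftOfSurjective v.appTop.hom hs ⟨m.appTop.hom, h⟩
  have hφ : v.appTop ≫ CommRingCat.ofHom φ = m.appTop :=
    CommRingCat.hom_ext (RingHom.liftOfSurjective_comp v.appTop.hom hs ⟨m.appTop.hom, h⟩)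
  refine ⟨T.toSpecΓ ≫ Spec.map (CommRingCat.ofHom φ) ≫ V.isoSpec.inv, ?_⟩
  rw [Category.assoc, Category.assoc, ← Scheme.isoSpec_inv_naturality, ← Spec.map_comp_assoc, hφ,
    ← Scheme.toSpecΓ_naturality_assoc, ← Scheme.isoSpec_hom, Iso.hom_inv_id, Category.comp_id]

/-- A function which vanishes on the source vanishes on the scheme theoretic image. -/
theorem appTop_imageι_eq_zero {V E : Scheme.{u}} [IsAffine E] (h : V ⟶ E) [QuasiCompact h]
    (f : Γ(E, ⊤)) (hf : h.appTop f = 0) : h.imageι.appTop f = 0 := by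
  have hinj := h.toImage_app_injective (U := ⟨⊤, isAffineOpen_top E⟩)
  apply hinj
  refine Eq.trans ?_ (map_zero _).symm
  show (h.imageι.appTop ≫ h.toImage.appTop) f = 0
  rw [← Scheme.Hom.comp_appTop, Scheme.Hom.toImage_imageι]
  exact hf

variable [QuasiSeparatedSpace S] {I : Type u} [SmallCategory I] [IsCofiltered I] (D : I ⥤ Sp S)

/-- A space embedded in the limit of a system is the limit of its scheme theoretic images. -/
theorem isLimit_schImage (hD : ∀ i, IsAlgSpace (D.obj i))
    (hDa : ∀ (i j : I) (φ : i ⟶ j), IsAffineMor (D.map φ)) (hqc : ∀ i, IsQuasiCompactSp (D.obj i))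
    (c : Cone D) (hc : IsLimit c) (X : AlgSp.Space S) (a : X.obj ⟶ c.pt) (i : I) (W : AlgSp.Space S)
    (w : W.obj ⟶ D.obj i) (hw : IsQuasiCompactMor w) (b : X.obj ⟶ W.obj)
    (hb : b ≫ w = a ≫ c.π.app i)
    (hci : ∀ (P : Sp S) (fst : P ⟶ c.pt) (snd : P ⟶ W.obj), IsPullback fst snd (c.π.app i) w →
      ∀ k : X.obj ⟶ P, k ≫ fst = a → k ≫ snd = b → RepWith @IsClosedImmersion k)
    (DP : Over i ⥤ Sp S) (π₁ : DP ⟶ Over.forget i ⋙ D)
    (π₂ : DP ⟶ (Functor.const (Over i)).obj W.obj)
    (hDP : ∀ i' : Over i, IsPullback (π₁.app i') (π₂.app i') (D.map i'.hom) w)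
    (DX : Over i ⥤ Sp S) (hDX : ∀ i', IsAlgSpace (DX.obj i')) (ε : DX ⟶ DP)
    (ξ : (Functor.const (Over i)).obj X.obj ⟶ DX)
    (hξ : ∀ i' : Over i, ξ.app i' ≫ ε.app i' ≫ π₁.app i' = a ≫ c.π.app i'.left ∧
      ξ.app i' ≫ ε.app i' ≫ π₂.app i' = b)
    (himg : ∀ i' : Over i, IsSchImage (ξ.app i' ≫ ε.app i') (ε.app i')) :
    Nonempty (IsLimit (Cone.mk X.obj ξ)) := by
  classical
  let Q := pullback (c.π.app i) w
  let k : X.obj ⟶ Q := pullback.lift a b hb.symm
  have hkf : k ≫ pullback.fst (c.π.app i) w = a := pullback.lift_fst _ _ _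
  have hks : k ≫ pullback.snd (c.π.app i) w = b := pullback.lift_snd _ _ _
  have hk : RepWith @IsClosedImmersion k :=
    hci Q _ _ (IsPullback.of_hasPullback _ _) k hkf hks
  have : Mono k := mono_of_repWith (fun _ _ g (_ : IsClosedImmersion g) => inferInstance) hk
  let pr : ∀ j : Over i, Q ⟶ DP.obj j := fun j => (hDP j).lift
    (pullback.fst (c.π.app i) w ≫ c.π.app j.left) (pullback.snd (c.π.app i) w)
    ((Category.assoc _ _ _).trans ((congrArg (pullback.fst (c.π.app i) w ≫ ·) (c.w j.hom)).trans pullback.condition))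
  have hpr₁ : ∀ j, pr j ≫ π₁.app j = pullback.fst (c.π.app i) w ≫ c.π.app j.left :=
    fun j => (hDP j).lift_fst _ _ _
  have hpr₂ : ∀ j, pr j ≫ π₂.app j = pullback.snd (c.π.app i) w := fun j => (hDP j).lift_snd _ _ _
  have hkpr : ∀ j, k ≫ pr j = ξ.app j ≫ ε.app j := fun j => (hDP j).hom_ext
    ((Category.assoc _ _ _).trans ((congrArg (k ≫ ·) (hpr₁ j)).trans ((Category.assoc _ _ _).symm.trans
      ((congrArg (· ≫ c.π.app j.left) hkf).trans ((hξ j).1.symm.trans (Category.assoc _ _ _).symm)))))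
    ((Category.assoc _ _ _).trans ((congrArg (k ≫ ·) (hpr₂ j)).trans
      (hks.trans ((hξ j).2.symm.trans (Category.assoc _ _ _).symm))))
  have hB : IsAlgSpace c.pt := isAlgSpace_pt D hDa hc hD
  have hQ : IsAlgSpace Q :=
    isAlgSpace_of_isPullback (IsPullback.of_hasPullback _ _) (hD i).diag hB W.property
  have hWc : IsQuasiCompactSp W.obj :=
    hw (hD i) (hqc i) (𝟙 _) (𝟙 _) w (IsPullback.of_horiz_isIso ⟨by simp⟩)
  obtain ⟨U, g, hU, hge, hgs⟩ := exists_affine_chart W.property hWc
  obtain ⟨P⟩ := nonempty_pullSys D hDa hc i (g ≫ w)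
  haveI := P.aff
  have := P.isAffineHom_bot
  have : IsAffine P.L.pt.left := isAffine_of_isAffineHom P.bot.left
  let γ : (yon S).obj P.L.pt ⟶ Q := pullback.lift P.top ((yon S).map P.bot ≫ g)
    (by rw [Category.assoc]; exact P.sqTop.w)
  have hγf : γ ≫ pullback.fst (c.π.app i) w = P.top := pullback.lift_fst _ _ _
  have hγs : γ ≫ pullback.snd (c.π.app i) w = (yon S).map P.bot ≫ g := pullback.lift_snd _ _ _
  have sqγ : IsPullback γ ((yon S).map P.bot) (pullback.snd (c.π.app i) w) g :=
    IsPullback.of_right (by rw [hγf]; exact P.sqTop) hγs (IsPullback.of_hasPullback _ _)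
  let γk : ∀ j : Over i, (yon S).obj (P.E.obj j) ⟶ DP.obj j := fun j => (hDP j).lift (P.p j)
    ((yon S).map (P.q j) ≫ g) (by rw [Category.assoc]; exact (P.sq j).w)
  have hγk₁ : ∀ j, γk j ≫ π₁.app j = P.p j := fun j => (hDP j).lift_fst _ _ _
  have hγk₂ : ∀ j, γk j ≫ π₂.app j = (yon S).map (P.q j) ≫ g := fun j => (hDP j).lift_snd _ _ _
  have sqγk : ∀ j, IsPullback (γk j) ((yon S).map (P.q j)) (π₂.app j) g := fun j =>
    IsPullback.of_right (by rw [hγk₁]; exact P.sq j) (hγk₂ j) (hDP j)
  have hγke : ∀ j, RepWith @Etale (γk j) := fun j => repWith_of_isPullback (sqγk j).flip hge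
  have hγpr : ∀ j, γ ≫ pr j = (yon S).map (P.L.π.app j) ≫ γk j := fun j => (hDP j).hom_ext
    ((Category.assoc _ _ _).trans ((congrArg (γ ≫ ·) (hpr₁ j)).trans ((Category.assoc _ _ _).symm.trans
      ((congrArg (· ≫ c.π.app j.left) hγf).trans ((P.top_π j).trans ((congrArg ((yon S).map (P.L.π.app j) ≫ ·)
      (hγk₁ j)).symm.trans (Category.assoc _ _ _).symm))))))
    (by rw [Category.assoc, Category.assoc, hpr₂, hγk₂, hγs, ← Category.assoc, ← Functor.map_comp,
      P.π_q])
  have sqj : ∀ j, IsPullback γ ((yon S).map (P.L.π.app j)) (pr j) (γk j) := fun j =>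
    IsPullback.of_bot (by rw [hpr₂, ← Functor.map_comp, P.π_q]; exact sqγ) (hγpr j) (sqγk j)
  obtain ⟨V, v, fV, sqV⟩ := hk.rep γ
  have : IsClosedImmersion v.left := hk.property γ fV v sqV
  have : IsAffine V.left := isAffine_of_isAffineHom v.left
  -- the key factorisation on schemes
  have key : ∀ (T : Over S) (t : (yon S).obj T ⟶ Q),
      (∀ j, ∃ s : (yon S).obj T ⟶ DX.obj j, s ≫ ε.app j = t ≫ pr j) →
      ∃ s : (yon S).obj T ⟶ X.obj, s ≫ k = t := by
    intro T t ht
    obtain ⟨T', m, m', sqT⟩ := exists_pullback_of_diag hQ.diag t γ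
    have : Etale m.left := (repWith_yon_map_iff _ m).1
      (repWith_of_isPullback sqT.flip (repWith_of_isPullback sqγ.flip hge))
    have : Surjective m.left := (repWith_yon_map_iff _ m).1
      (repWith_of_isPullback sqT.flip (repWith_of_isPullback sqγ.flip hgs))
    have hvan : ∀ f : Γ(P.L.pt.left, ⊤), v.left.appTop f = 0 → m'.left.appTop f = 0 := by
      intro f hf
      obtain ⟨j, f₀, rfl⟩ := exists_appTop_π_eq_of_isAffine_of_isLimit
        (P.affSys.D ⋙ Over.forget S) _ P.affSys.isLimit f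
      obtain ⟨s, hs⟩ := ht j
      let Vj := (yon S).obj (P.E.obj j)
      have hVj : IsAlgSpace Vj := IsAlgSpace.yon_obj _
      have : IsAffine (P.E.obj j).left := isAffine_of_isAffineHom (P.q j).left
      have hDPj : IsAlgSpace (DP.obj j) :=
        isAlgSpace_of_isPullback (hDP j) (hD i).diag (hD j.left) W.property
      have hpra : IsAffineMor (pr j) := by
        refine isAffineMor_of_isPullback (g := π₁.app j) (g' := pullback.fst (c.π.app i) w) ?_
          (isAffineMor_π D hDa hc j.left)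
        exact IsPullback.of_bot (h₂₁ := π₁.app j)
          (((congrArg₂ (fun l₁ l₂ => IsPullback (pullback.fst (c.π.app i) w) l₁ l₂ w) (hpr₂ j)
              (c.w j.hom)).mpr (IsPullback.of_hasPullback _ _))) (hpr₁ j).symm (hDP j)
      have hka : IsAffineMor k := isAffineMor_iff_repWith.2 (repWith_mono
        (fun _ _ l (_ : IsClosedImmersion l) => (inferInstance : IsAffineHom l)) hk)
      have hqcj : IsQuasiCompactMor (ξ.app j ≫ ε.app j) := by
        rw [← hkpr]
        exact isQuasiCompactMor_of_repWith X.property hDPj (repWith_mono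
          (fun _ _ l (_ : IsAffineHom l) => (inferInstance : QuasiCompact l))
          (isAffineMor_iff_repWith.1 (isAffineMor_comp hka hpra)))
      have hflat : LocP @Flat (γk j) := locP_of_repWith
        (repWith_mono (fun _ _ l (_ : Etale l) => (inferInstance : Flat l)) (hγke j))
      have sqY : IsPullback fV ((yon S).map (v ≫ P.L.π.app j)) (ξ.app j ≫ ε.app j) (γk j) := by
        rw [Functor.map_comp, ← hkpr]
        exact sqV.paste_vert (sqj j)
      have sqZ := IsPullback.of_hasPullback (ε.app j) (γk j)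
      have himg' := Groth.AlgSp3.isSchImage_of_flat_baseChange hDPj hVj X.property (hDX j) hqcj
        (himg j) hflat sqY sqZ
      let h := (v ≫ P.L.π.app j).left
      let Z' : Over S := Over.mk (h.imageι ≫ (P.E.obj j).hom)
      let ι : Z' ⟶ P.E.obj j := Over.homMk h.imageι rfl
      let τ : V ⟶ Z' := Over.homMk h.toImage (by
        show h.toImage ≫ h.imageι ≫ (P.E.obj j).hom = V.hom
        rw [Scheme.Hom.toImage_imageι_assoc]
        exact Over.w (v ≫ P.L.π.app j))
      obtain ⟨d, hd⟩ := himg'.2.2 ((yon S).map ι) (IsAlgSpace.yon_obj _)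
        ((repWith_yon_map_iff _ ι).2 (inferInstanceAs (IsClosedImmersion h.imageι)))
        ⟨(yon S).map τ, by
          rw [← Functor.map_comp]
          exact congrArg _ (Over.OverMorphism.ext h.toImage_imageι)⟩
      obtain ⟨e, he⟩ := (yon S).map_surjective (pullback.lift ((yon S).map m ≫ s)
        ((yon S).map (m' ≫ P.L.π.app j)) (by
          rw [Category.assoc, hs, Functor.map_comp, Category.assoc, ← hγpr, ← Category.assoc,
            ← Category.assoc, sqT.w]) ≫ d)
      have hei : e ≫ ι = m' ≫ P.L.π.app j := (yon S).map_injective (by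
        rw [Functor.map_comp, he, Category.assoc, hd, pullback.lift_snd])
      have hei' : e.left ≫ h.imageι = m'.left ≫ (P.L.π.app j).left :=
        congrArg (fun l => l.left) hei
      have hz : h.imageι.appTop f₀ = 0 := by
        refine appTop_imageι_eq_zero h f₀ ?_
        show ((v.left ≫ (P.L.π.app j).left).appTop) f₀ = 0
        rw [Scheme.Hom.comp_appTop]
        exact hf
      show ((P.L.π.app j).left.appTop ≫ m'.left.appTop) f₀ = 0
      rw [← Scheme.Hom.comp_appTop, ← hei', Scheme.Hom.comp_appTop, CommRingCat.comp_apply, hz,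
        map_zero]
    obtain ⟨e, he⟩ := exists_lift_of_appTop v.left m'.left hvan
    let e' : T' ⟶ V := Over.homMk e (by rw [← Over.w v, ← Category.assoc, he, Over.w m'])
    have he' : e' ≫ v = m' := Over.OverMorphism.ext he
    refine Groth.AlgSp3.exists_lift_of_mono_of_covering k t
      (generate_singleton_mem m) fun T'' φ hφ => ?_
    obtain ⟨Z, q, l, ⟨⟩, rfl⟩ := hφ
    refine ⟨(yon S).map q ≫ (yon S).map e' ≫ fV, ?_⟩
    rw [Category.assoc, Category.assoc, sqV.w, ← Category.assoc ((yon S).map e'), ← Functor.map_comp, he',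
      ← sqT.w, Functor.map_comp, Category.assoc]
  -- the limit
  have := IsCofiltered.isConnected (C := Over i)
  let j₀ : Over i := Over.mk (𝟙 i)
  let hc' := (Functor.Initial.isLimitWhiskerEquiv (Over.forget i) c).symm hc
  have ex : ∀ s : Cone DX, ∃ f : s.pt ⟶ X.obj, ∀ j, f ≫ ξ.app j = s.π.app j := by
    intro s
    let s₁ : Cone (Over.forget i ⋙ D) := ⟨s.pt, s.π ≫ ε ≫ π₁⟩
    let t₁ : s.pt ⟶ c.pt := hc'.lift s₁
    have ht₁ : ∀ j : Over i, t₁ ≫ c.π.app j.left = s.π.app j ≫ ε.app j ≫ π₁.app j := hc'.fac s₁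
    let t₂ : s.pt ⟶ W.obj := s.π.app j₀ ≫ ε.app j₀ ≫ π₂.app j₀
    have ht₂ : ∀ j, s.π.app j ≫ ε.app j ≫ π₂.app j = t₂ := fun j => by
      have h₁ := (s.π ≫ ε ≫ π₂).naturality (Over.homMk j.hom : j ⟶ j₀)
      simpa using h₁.symm
    let t : s.pt ⟶ Q := pullback.lift t₁ t₂ (by
      refine (ht₁ j₀).trans ?_
      have e := (hDP j₀).w
      simp only [t₂, Category.assoc, ← e]
      simp [j₀])
    have ht : ∀ j, t ≫ pr j = s.π.app j ≫ ε.app j := fun j => (hDP j).hom_ext
      ((Category.assoc _ _ _).trans ((congrArg (t ≫ ·) (hpr₁ j)).trans ((Category.assoc _ _ _).symm.trans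
        ((congrArg (· ≫ c.π.app j.left) (pullback.lift_fst _ _ _)).trans ((ht₁ j).trans
          (Category.assoc _ _ _).symm)))))
      (by rw [Category.assoc, hpr₂, pullback.lift_snd, Category.assoc, ht₂])
    have : IsIso (pullback.fst t k) := by
      refine isIso_of_bijective_comp _ fun T => ⟨fun x y e => (cancel_mono _).1 e, fun x => ?_⟩
      obtain ⟨f, hf⟩ := key T (x ≫ t) fun j => ⟨x ≫ s.π.app j, by
        rw [Category.assoc, Category.assoc, ht]⟩
      exact ⟨pullback.lift x f hf.symm, pullback.lift_fst _ _ _⟩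
    refine ⟨inv (pullback.fst t k) ≫ pullback.snd t k, fun j => ?_⟩
    have hm : Mono (ε.app j) :=
      mono_of_repWith (fun _ _ g (_ : IsClosedImmersion g) => inferInstance) (himg j).1
    rw [← cancel_mono (ε.app j), Category.assoc, ← hkpr, Category.assoc, ← pullback.condition_assoc,
      IsIso.inv_hom_id_assoc, ht]
  choose f hf using ex
  refine ⟨{ lift := f, fac := hf, uniq := fun s m hm => (cancel_mono k).1 ?_ }⟩
  have hm' : ∀ j, m ≫ k ≫ pr j = f s ≫ k ≫ pr j := fun j => by
    rw [hkpr, ← Category.assoc, ← Category.assoc]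
    exact congrArg (· ≫ ε.app j) ((hm j).trans (hf s j).symm)
  refine pullback.hom_ext (hom_ext_over hc i fun j => ?_) ?_
  · have h₁ := congrArg (· ≫ π₁.app j) (hm' j)
    simp only [Category.assoc] at h₁ ⊢
    exact ((congrArg (m ≫ ·) (congrArg (k ≫ ·) (hpr₁ j))).symm.trans h₁).trans
      (congrArg (f s ≫ ·) (congrArg (k ≫ ·) (hpr₁ j)))
  · simpa [hpr₂] using congrArg (· ≫ π₂.app j₀) (hm' j₀)

end

end Groth.AlgSp2.GoodDiagram
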