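import Groth.Agent.AlgSp2.GoodDiagram.ImageLimit
import Groth.Agent.AlgSp2.Approx.SchemeStage
import Groth.Agent.SpLimit.SpaceLift
import Groth.Agent.SpLimit.MonoEventual

/-!
# Morphisms between systems of scheme theoretic images
-/

set_option autoImplicit false
set_option backward.isDefEq.respectTransparency.types false
set_option linter.unusedSectionVars false
universe u

open CategoryTheory CategoryTheory.Limits AlgebraicGeometry Opposite AlgSp

namespace Groth.AlgSp2.GoodDiagram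

open Groth.AlgSpBasic Groth.AlgSp2 Groth.SpLimit

noncomputable section

variable {S : Scheme.{u}}

theorem mono_closed {A B : Sp S} {e : A ⟶ B} (he : RepWith @IsClosedImmersion e) : Mono e :=
  mono_of_repWith (fun _ _ g (_ : IsClosedImmersion g) => inferInstance) he

theorem isAffineMor_closed {A B : Sp S} {e : A ⟶ B} (he : RepWith @IsClosedImmersion e) :
    IsAffineMor e :=
  isAffineMor_iff_repWith.2 (repWith_mono
    (fun _ _ l (_ : IsClosedImmersion l) => (inferInstance : IsAffineHom l)) he)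

variable {I : Type u} [SmallCategory I] [IsCofiltered I] (D : I ⥤ Sp S)
  (hD : ∀ i, IsAlgSpace (D.obj i)) (hDa : ∀ (i j : I) (φ : i ⟶ j), IsAffineMor (D.map φ))
  {i : I} {W : AlgSp.Space S} {w : W.obj ⟶ D.obj i}
  (DP : Over i ⥤ Sp S) (π₁ : DP ⟶ Over.forget i ⋙ D)
  (π₂ : DP ⟶ (Functor.const (Over i)).obj W.obj)
  (hDP : ∀ i' : Over i, IsPullback (π₁.app i') (π₂.app i') (D.map i'.hom) w)
  (DX : Over i ⥤ Sp S) (hDX : ∀ i', IsAlgSpace (DX.obj i')) (ε : DX ⟶ DP)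
  (hε : ∀ i', RepWith @IsClosedImmersion (ε.app i'))

include hD hDa hDP hDX hε

/-- The transition maps of a system of closed subspaces of pullbacks are affine. -/
theorem isAffineMor_map (A B : Over i) (m : A ⟶ B) : IsAffineMor (DX.map m) := by
  have sq : IsPullback (π₁.app A) (DP.map m) (D.map m.left) (π₁.app B) := by
    refine IsPullback.of_bot (h₂₁ := π₁.app B) (v₂₁ := π₂.app B) (v₂₂ := D.map B.hom) ?_
      (π₁.naturality m).symm (hDP B)
    have e : DP.map m ≫ π₂.app B = π₂.app A := (π₂.naturality m).trans (Category.comp_id _)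
    have e' : D.map m.left ≫ D.map B.hom = D.map A.hom := by rw [← Functor.map_comp, Over.w m]
    exact (congrArg₂ (fun l₁ l₂ => IsPullback (π₁.app A) l₁ l₂ w) e e').mpr (hDP A)
  refine isAffineMor_of_comp (DX.map m) (ε.app B) ?_ ?_
  · rw [ε.naturality m]
    exact isAffineMor_comp (isAffineMor_closed (hε A))
      (isAffineMor_of_isPullback sq (hDa _ _ m.left))
  · exact isAffineMor_closed (repWith_diagonal_of_isAffineMor (hDX B) (isAffineMor_closed (hε B)))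

/-- The members of the system are affine over the model. -/
theorem isAffineMor_proj (A : Over i) : IsAffineMor (ε.app A ≫ π₂.app A) :=
  isAffineMor_comp (isAffineMor_closed (hε A)) (isAffineMor_of_isPullback (hDP A) (hDa _ _ A.hom))

omit hD hDa hDP hDX hε in
/-- A map from a scheme theoretic image factors through a closed subspace if the source does. -/
theorem exists_factor_of_isSchImage {F G Z T T' : Sp S} {f : F ⟶ G} {e : Z ⟶ G} (hi : IsSchImage f e)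
    {ξ : F ⟶ Z} (hξ : ξ ≫ e = f) (hZ : IsAlgSpace Z) {e' : T' ⟶ T} (he' : RepWith @IsClosedImmersion e')
    (hT : IsAlgSpace T) (hT' : IsAlgSpace T') (θ : Z ⟶ T) (r : F ⟶ T') (hr : r ≫ e' = ξ ≫ θ) :
    ∃ t : Z ⟶ T', t ≫ e' = θ := by
  have := mono_closed hi.1
  have hp : RepWith @IsClosedImmersion (pullback.fst θ e') :=
    repWith_of_isPullback (IsPullback.of_hasPullback θ e').flip he'
  have hP : IsAlgSpace (pullback θ e') :=
    isAlgSpace_of_isPullback (IsPullback.of_hasPullback θ e') hT.diag hZ hT'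
  obtain ⟨k, hk⟩ := hi.2.2 (pullback.fst θ e' ≫ e) hP (repWith_comp hp hi.1)
    ⟨pullback.lift ξ r hr.symm, by rw [pullback.lift_fst_assoc, hξ]⟩
  have hk' : k ≫ pullback.fst θ e' = 𝟙 Z := by
    rw [← cancel_mono e, Category.assoc, hk, Category.id_comp]
  exact ⟨k ≫ pullback.snd θ e', by rw [Category.assoc, ← pullback.condition, ← Category.assoc, hk', Category.id_comp]⟩

omit hD hDa hDP hDX hε in
/-- Morphisms of good diagrams come from morphisms of the systems of images. -/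
theorem exists_imageMap [QuasiSeparatedSpace S] (hD : ∀ i, IsAlgSpace (D.obj i))
    (hDa : ∀ (i j : I) (φ : i ⟶ j), IsAffineMor (D.map φ))
    (hqc : ∀ i, IsQuasiCompactSp (D.obj i)) (hqs : ∀ i, IsQuasiSeparatedSp (D.obj i))
    (c : Cone D) (hc : IsLimit c) (X Y : AlgSp.Space S) (aX : X.obj ⟶ c.pt) (aY : Y.obj ⟶ c.pt)
    (f : X.obj ⟶ Y.obj) (hf : f ≫ aY = aX)
    (i₁ : I) (W : AlgSp.Space S) (w : W.obj ⟶ D.obj i₁) (hw : IsQuasiCompactMor w)
    (hws : IsQuasiSeparatedMor w) (bX : X.obj ⟶ W.obj) (hbX : bX ≫ w = aX ≫ c.π.app i₁)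
    (hciX : ∀ (P : Sp S) (fst : P ⟶ c.pt) (snd : P ⟶ W.obj), IsPullback fst snd (c.π.app i₁) w →
      ∀ k : X.obj ⟶ P, k ≫ fst = aX → k ≫ snd = bX → RepWith @IsClosedImmersion k)
    (PX : Over i₁ ⥤ Sp S) (PXπ₁ : PX ⟶ Over.forget i₁ ⋙ D)
    (PXπ₂ : PX ⟶ (Functor.const (Over i₁)).obj W.obj)
    (hPX : ∀ i' : Over i₁, IsPullback (PXπ₁.app i') (PXπ₂.app i') (D.map i'.hom) w)
    (DX : Over i₁ ⥤ Sp S) (hDX : ∀ i', IsAlgSpace (DX.obj i')) (εX : DX ⟶ PX)
    (ξX : (Functor.const (Over i₁)).obj X.obj ⟶ DX)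
    (hξX : ∀ i' : Over i₁, ξX.app i' ≫ εX.app i' ≫ PXπ₁.app i' = aX ≫ c.π.app i'.left ∧
      ξX.app i' ≫ εX.app i' ≫ PXπ₂.app i' = bX)
    (himgX : ∀ i' : Over i₁, IsSchImage (ξX.app i' ≫ εX.app i') (εX.app i'))
    (i₂ : I) (V : AlgSp.Space S) (v : V.obj ⟶ D.obj i₂) (hv : LocP @LocallyOfFinitePresentation v)
    (bY : Y.obj ⟶ V.obj) (hbY : bY ≫ v = aY ≫ c.π.app i₂)
    (PY : Over i₂ ⥤ Sp S) (PYπ₁ : PY ⟶ Over.forget i₂ ⋙ D)
    (PYπ₂ : PY ⟶ (Functor.const (Over i₂)).obj V.obj)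
    (hPY : ∀ i' : Over i₂, IsPullback (PYπ₁.app i') (PYπ₂.app i') (D.map i'.hom) v)
    (DY : Over i₂ ⥤ Sp S) (hDY : ∀ i', IsAlgSpace (DY.obj i')) (εY : DY ⟶ PY)
    (ξY : (Functor.const (Over i₂)).obj Y.obj ⟶ DY)
    (hξY : ∀ i' : Over i₂, ξY.app i' ≫ εY.app i' ≫ PYπ₁.app i' = aY ≫ c.π.app i'.left ∧
      ξY.app i' ≫ εY.app i' ≫ PYπ₂.app i' = bY)
    (himgY : ∀ i' : Over i₂, IsSchImage (ξY.app i' ≫ εY.app i') (εY.app i')) :
    ∃ (i₀ : I) (φ₁ : i₀ ⟶ i₁) (φ₂ : i₀ ⟶ i₂) (fam : Over.map φ₁ ⋙ DX ⟶ Over.map φ₂ ⋙ DY),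
      (∀ i' : Over i₀, ξX.app ((Over.map φ₁).obj i') ≫ fam.app i' =
        f ≫ ξY.app ((Over.map φ₂).obj i')) ∧
        (∀ i' : Over i₀, fam.app i' ≫ εY.app ((Over.map φ₂).obj i') ≫
            PYπ₁.app ((Over.map φ₂).obj i') =
          εX.app ((Over.map φ₁).obj i') ≫ PXπ₁.app ((Over.map φ₁).obj i')) ∧
      ∀ gam : Over.map φ₁ ⋙ DX ⟶ Over.map φ₂ ⋙ DY,
        (∀ i' : Over i₀, ξX.app ((Over.map φ₁).obj i') ≫ gam.app i' =
          f ≫ ξY.app ((Over.map φ₂).obj i')) ∧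
        (∀ i' : Over i₀, gam.app i' ≫ εY.app ((Over.map φ₂).obj i') ≫
            PYπ₁.app ((Over.map φ₂).obj i') =
          εX.app ((Over.map φ₁).obj i') ≫ PXπ₁.app ((Over.map φ₁).obj i')) →
        ∃ (j₀ : I) (ψ : j₀ ⟶ i₀), ∀ j : Over j₀,
          fam.app ((Over.map ψ).obj j) = gam.app ((Over.map ψ).obj j) := by
  have hWs : IsQuasiSeparatedSp W.obj := isQuasiSeparatedSp_of_mor hws (hqs i₁)
  have hWc : IsQuasiCompactSp W.obj :=
    hw (hD i₁) (hqc i₁) (𝟙 _) (𝟙 _) w (IsPullback.of_horiz_isIso ⟨by simp⟩)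
  have hεX : ∀ A, RepWith @IsClosedImmersion (εX.app A) := fun A => (himgX A).1
  have hDXa := isAffineMor_map D hD hDa PX PXπ₁ PXπ₂ hPX DX hDX εX hεX
  have hproj := isAffineMor_proj D hD hDa PX PXπ₁ PXπ₂ hPX DX hDX εX hεX
  have hXc : ∀ A, IsQuasiCompactSp (DX.obj A) := fun A =>
    Approx.isQuasiCompactSp_of_affineMor (hDX A) (hproj A) W.property hWc
  have hXs : ∀ A, IsQuasiSeparatedSp (DX.obj A) := fun A =>
    Approx.isQuasiSeparatedSp_of_affineMor (hDX A) (hproj A) hWs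
  obtain ⟨hlimX⟩ := isLimit_schImage D hD hDa hqc c hc X aX i₁ W w hw bX hbX hciX PX PXπ₁ PXπ₂ hPX
    DX hDX εX ξX hξX himgX
  obtain ⟨j, ψ₁, ψ₂, -⟩ := IsCofilteredOrEmpty.cone_objs i₁ i₂
  let A₁ : Over i₁ := Over.mk ψ₁
  let y : DX.obj A₁ ⟶ D.obj i₂ := εX.app A₁ ≫ PXπ₁.app A₁ ≫ D.map ψ₂
  obtain ⟨k, φ, x', hx', hx'v⟩ := space_exists_lift hDX hDXa hlimX hXc V.property (hD i₂) hv hXs
    (i := A₁) y (f ≫ bY) (by
      refine (Category.assoc _ _ _).trans ((congrArg (f ≫ ·) hbY).trans ?_)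
      refine (Category.assoc _ _ _).symm.trans ((congrArg (· ≫ c.π.app i₂) hf).trans ?_)
      refine (congrArg (aX ≫ ·) (c.w ψ₂).symm).trans ?_
      refine (Category.assoc _ _ _).symm.trans ?_
      exact (congrArg (· ≫ D.map ψ₂) (hξX A₁).1.symm).trans (by simp only [y, Category.assoc]; rfl))
  let i₀ := k.left
  let φ₁ : i₀ ⟶ i₁ := k.hom
  let φ₂ : i₀ ⟶ i₂ := φ.left ≫ ψ₂
  let μ : ∀ i' : Over i₀, (Over.map φ₁).obj i' ⟶ k := fun i' => Over.homMk i'.hom rfl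
  have hμ : ∀ {a b : Over i₀} (m : a ⟶ b), (Over.map φ₁).map m ≫ μ b = μ a := fun m =>
    Over.OverMorphism.ext (Over.w m)
  let g : ∀ i' : Over i₀, DX.obj ((Over.map φ₁).obj i') ⟶ V.obj := fun i' => DX.map (μ i') ≫ x'
  have hgv : ∀ i' : Over i₀, (εX.app ((Over.map φ₁).obj i') ≫ PXπ₁.app ((Over.map φ₁).obj i')) ≫
      D.map ((Over.map φ₂).obj i').hom = g i' ≫ v := fun i' => by
    have n := (εX ≫ PXπ₁).naturality (μ i' ≫ φ)
    simp only [NatTrans.comp_app] at n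
    refine Eq.symm ?_
    calc g i' ≫ v = DX.map (μ i') ≫ DX.map φ ≫ y := by
          simp only [g, Category.assoc]; exact congrArg (DX.map (μ i') ≫ ·) hx'v
      _ = (DX.map (μ i' ≫ φ) ≫ εX.app A₁ ≫ PXπ₁.app A₁) ≫ D.map ψ₂ := by
          rw [Functor.map_comp]; simp only [y, Category.assoc]
      _ = ((εX.app ((Over.map φ₁).obj i') ≫ PXπ₁.app ((Over.map φ₁).obj i')) ≫
            D.map (μ i' ≫ φ).left) ≫ D.map ψ₂ := congrArg (· ≫ D.map ψ₂) n
      _ = (εX.app ((Over.map φ₁).obj i') ≫ PXπ₁.app ((Over.map φ₁).obj i')) ≫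
            D.map ((μ i' ≫ φ).left ≫ ψ₂) :=
          (Category.assoc _ _ _).trans (congrArg (_ ≫ ·) (Functor.map_comp _ _ _).symm)
      _ = _ := congrArg (fun l => _ ≫ D.map l) (Category.assoc _ _ _)
  let θ : ∀ i' : Over i₀, DX.obj ((Over.map φ₁).obj i') ⟶ PY.obj ((Over.map φ₂).obj i') :=
    fun i' => (hPY _).lift (εX.app _ ≫ PXπ₁.app _) (g i') (hgv i')
  have hθ₁ : ∀ i', θ i' ≫ PYπ₁.app _ = εX.app _ ≫ PXπ₁.app _ := fun i' => (hPY _).lift_fst _ _ _
  have hθ₂ : ∀ i', θ i' ≫ PYπ₂.app _ = g i' := fun i' => (hPY _).lift_snd _ _ _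
  have hξg : ∀ i', ξX.app ((Over.map φ₁).obj i') ≫ g i' = f ≫ bY := fun i' => by
    have h₁ : ξX.app ((Over.map φ₁).obj i') ≫ DX.map (μ i') = ξX.app k :=
      (ξX.naturality (μ i')).symm.trans (Category.id_comp _)
    exact (Category.assoc _ _ _).symm.trans ((congrArg (· ≫ x') h₁).trans hx')
  have hr : ∀ i', (f ≫ ξY.app ((Over.map φ₂).obj i')) ≫ εY.app _ =
      ξX.app ((Over.map φ₁).obj i') ≫ θ i' := fun i' => (hPY _).hom_ext
    (by
      simp only [Category.assoc]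
      refine (congrArg (f ≫ ·) (hξY _).1).trans (Eq.trans ?_
        (congrArg (ξX.app _ ≫ ·) (hθ₁ i')).symm)
      refine (Category.assoc _ _ _).symm.trans ((congrArg (· ≫ c.π.app _) hf).trans ?_)
      exact (hξX ((Over.map φ₁).obj i')).1.symm)
    (by
      simp only [Category.assoc]
      exact (congrArg (f ≫ ·) (hξY _).2).trans ((hξg i').symm.trans
        (congrArg (ξX.app _ ≫ ·) (hθ₂ i')).symm))
  have hPYs : ∀ B, IsAlgSpace (PY.obj B) := fun B =>
    isAlgSpace_of_isPullback (hPY B) (hD i₂).diag (hD B.left) V.property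
  choose t ht using fun i' => exists_factor_of_isSchImage (himgX ((Over.map φ₁).obj i'))
    (ξ := ξX.app _) rfl (hDX _) (himgY ((Over.map φ₂).obj i')).1 (hPYs _) (hDY _) (θ i') _ (hr i')
  have hmY : ∀ B, Mono (εY.app B) := fun B => mono_closed (himgY B).1
  have hext : ∀ {Q : Sp S} {B : Over i₂} {p q : Q ⟶ DY.obj B},
      p ≫ εY.app B ≫ PYπ₁.app B = q ≫ εY.app B ≫ PYπ₁.app B →
      p ≫ εY.app B ≫ PYπ₂.app B = q ≫ εY.app B ≫ PYπ₂.app B → p = q := fun {Q B p q} h₁ h₂ =>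
    have := hmY B
    (cancel_mono (εY.app B)).1 ((hPY B).hom_ext (by simpa using h₁) (by simpa using h₂))
  have ht₁ : ∀ i', t i' ≫ εY.app _ ≫ PYπ₁.app _ = εX.app _ ≫ PXπ₁.app _ := fun i' =>
    (Category.assoc _ _ _).symm.trans ((congrArg (· ≫ PYπ₁.app _) (ht i')).trans (hθ₁ i'))
  have ht₂ : ∀ i', t i' ≫ εY.app _ ≫ PYπ₂.app _ = g i' := fun i' =>
    (Category.assoc _ _ _).symm.trans ((congrArg (· ≫ PYπ₂.app _) (ht i')).trans (hθ₂ i'))
  let fam : Over.map φ₁ ⋙ DX ⟶ Over.map φ₂ ⋙ DY :=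
    { app := t
      naturality := fun a b m => by
        refine hext ?_ ?_
        · have nX := (εX ≫ PXπ₁).naturality ((Over.map φ₁).map m)
          have nY := (εY ≫ PYπ₁).naturality ((Over.map φ₂).map m)
          simp only [NatTrans.comp_app] at nX nY
          refine ((Category.assoc _ _ _).trans (congrArg (_ ≫ ·) (ht₁ b))).trans ?_
          refine (nX.trans (congrArg (· ≫ D.map m.left) (ht₁ a)).symm).trans ?_
          exact (Category.assoc _ _ _).trans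
            ((congrArg (t a ≫ ·) nY.symm).trans (Category.assoc _ _ _).symm)
        · have nY := (εY ≫ PYπ₂).naturality ((Over.map φ₂).map m)
          simp only [NatTrans.comp_app] at nY
          calc ((Over.map φ₁ ⋙ DX).map m ≫ t b) ≫ εY.app _ ≫ PYπ₂.app _
              = DX.map ((Over.map φ₁).map m) ≫ g b :=
                (Category.assoc _ _ _).trans (congrArg (_ ≫ ·) (ht₂ b))
            _ = g a := (Category.assoc _ _ _).symm.trans (congrArg (· ≫ x')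
                ((DX.map_comp _ _).symm.trans (congrArg DX.map (hμ m))))
            _ = t a ≫ εY.app _ ≫ PYπ₂.app _ := (ht₂ a).symm
            _ = _ := (congrArg (t a ≫ ·) (nY.trans (Category.comp_id _)).symm).trans
                (Category.assoc _ _ _).symm }
  refine ⟨i₀, φ₁, φ₂, fam, fun i' => ?_, ht₁, fun gam ⟨hg₀, hg₁⟩ => ?_⟩
  · have := hmY ((Over.map φ₂).obj i')
    exact (cancel_mono (εY.app _)).1 ((Category.assoc _ _ _).trans
      ((congrArg (ξX.app _ ≫ ·) (ht i')).trans (hr i').symm))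
  let o : Over i₀ := Over.mk (𝟙 i₀)
  let A₀ := (Over.map φ₁).obj o
  let x₁ : DX.obj A₀ ⟶ V.obj := fam.app o ≫ εY.app _ ≫ PYπ₂.app _
  let x₂ : DX.obj A₀ ⟶ V.obj := gam.app o ≫ εY.app _ ≫ PYπ₂.app _
  have hxv : ∀ τ : DX.obj A₀ ⟶ DY.obj ((Over.map φ₂).obj o),
      τ ≫ εY.app _ ≫ PYπ₁.app _ = εX.app A₀ ≫ PXπ₁.app A₀ →
      (τ ≫ εY.app _ ≫ PYπ₂.app _) ≫ v =
        (εX.app A₀ ≫ PXπ₁.app A₀) ≫ D.map ((Over.map φ₂).obj o).hom := fun τ hτ => by
    rw [← hτ]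
    simp only [Category.assoc]
    exact congrArg (fun l => τ ≫ εY.app _ ≫ l) (hPY _).w.symm
  have hxξ : ξX.app A₀ ≫ x₁ = ξX.app A₀ ≫ x₂ := by
    have h₁ : ξX.app A₀ ≫ fam.app o = ξX.app A₀ ≫ gam.app o := by
      refine Eq.trans ?_ (hg₀ o).symm
      have := hmY ((Over.map φ₂).obj o)
      exact (cancel_mono (εY.app _)).1 ((Category.assoc _ _ _).trans
        ((congrArg (ξX.app _ ≫ ·) (ht o)).trans (hr o).symm))
    exact (Category.assoc _ _ _).symm.trans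
      ((congrArg (· ≫ (εY.app _ ≫ PYπ₂.app _)) h₁).trans (Category.assoc _ _ _))
  obtain ⟨A', ψ, hψ⟩ := space_eq_eventually hDX hDXa hlimX hXc V.property (hD i₂) hv x₁ x₂
    ((hxv _ (ht₁ o)).trans (hxv _ (hg₁ o)).symm) hxξ
  refine ⟨A'.left, ψ.left, fun j' => hext ((ht₁ _).trans (hg₁ _).symm) ?_⟩
  let a : Over i₀ := (Over.map ψ.left).obj j'
  let m : a ⟶ o := Over.homMk a.hom
  have nY := (εY ≫ PYπ₂).naturality ((Over.map φ₂).map m)
  simp only [NatTrans.comp_app] at nY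
  have key : ∀ ga : Over.map φ₁ ⋙ DX ⟶ Over.map φ₂ ⋙ DY,
      ga.app a ≫ εY.app _ ≫ PYπ₂.app _ =
        DX.map ((Over.map φ₁).map m) ≫ ga.app o ≫ εY.app _ ≫ PYπ₂.app _ := fun ga => by
    refine (congrArg (ga.app a ≫ ·) (nY.trans (Category.comp_id _)).symm).trans ?_
    exact (Category.assoc _ _ _).symm.trans
      ((congrArg (· ≫ (εY.app _ ≫ PYπ₂.app _)) (ga.naturality m).symm).trans (Category.assoc _ _ _))
  let ν : (Over.map φ₁).obj a ⟶ A' := Over.homMk j'.hom (by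
    show j'.hom ≫ A'.hom = (j'.hom ≫ ψ.left) ≫ φ₁
    have hw := Over.w ψ
    rw [Category.assoc]
    refine congrArg (j'.hom ≫ ·) (hw.symm.trans ?_)
    exact congrArg (ψ.left ≫ ·) (Category.id_comp _))
  have hν : (Over.map φ₁).map m = ν ≫ ψ := Over.OverMorphism.ext rfl
  refine (key fam).trans (Eq.trans ?_ (key gam).symm)
  rw [hν, DX.map_comp]
  exact (Category.assoc _ _ _).trans ((congrArg (DX.map ν ≫ ·) hψ).trans (Category.assoc _ _ _).symm)

end

end Groth.AlgSp2.GoodDiagram
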