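import Groth.Agent.AlgSp2.Absolute.RelApprox
import Groth.Agent.SpLimit.Charts

/-!
# Good diagrams of finite type spaces over limits
-/

set_option autoImplicit false
set_option backward.isDefEq.respectTransparency.types false
set_option linter.unusedSectionVars false
universe u

open CategoryTheory CategoryTheory.Limits AlgebraicGeometry Opposite AlgSp

namespace Groth.AlgSp2.GoodDiagram

open Groth.AlgSpBasic Groth.AlgSp2 Groth.AlgSp2.Approx Groth.AlgSp2.Absolute Groth.SpLimit

noncomputable section

variable {S : Scheme.{u}}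

/-- A map of finite type from a cofiltered affine limit becomes a closed immersion at a stage. -/
theorem exists_closedImmersion_stage {J : Type u} [SmallCategory J] [IsCofiltered J] (A : AffSys S J)
    {T B : Over S} [IsAffine B.left] (q : ∀ k, A.D.obj k ⟶ T) [∀ k, IsAffineHom (q k).left]
    (β : B ⟶ T) (u : A.c.pt ⟶ B) (hu : ∀ k, u ≫ β = A.c.π.app k ≫ q k)
    (hlft : LocallyOfFiniteType u.left) :
    ∃ k, ∀ (v : A.c.pt ⟶ pullback β (q k)), v ≫ pullback.fst β (q k) = u →
      v ≫ pullback.snd β (q k) = A.c.π.app k → IsClosedImmersion v.left := by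
  classical
  letI := (u.left.appTop).hom.toAlgebra
  have hft : Algebra.FiniteType Γ(B.left, ⊤) Γ(A.c.pt.left, ⊤) :=
    (HasRingHomProperty.iff_of_isAffine (P := @LocallyOfFiniteType)).1 hlft
  obtain ⟨gens, hgens⟩ := hft.out
  choose st y hy using fun c : Γ(A.c.pt.left, ⊤) =>
    exists_appTop_π_eq_of_isAffine_of_isLimit (A.D ⋙ Over.forget S) _ A.isLimit c
  obtain ⟨k, hk⟩ := IsCofiltered.inf_objs_exists (gens.image st)
  refine ⟨k, fun v hv₁ hv₂ => ?_⟩
  have sq := isPullback_left (isPullback_of_yon ((IsPullback.of_hasPullback β (q k)).map (yon S)))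
  have : IsAffineHom (pullback.fst β (q k)).left :=
    MorphismProperty.of_isPullback (P := @IsAffineHom) sq.flip inferInstance
  have : IsAffine (pullback β (q k)).left := isAffine_of_isAffineHom (pullback.fst β (q k)).left
  refine IsClosedImmersion.of_surjective_of_isAffine v.left fun c => ?_
  have hc : c ∈ Algebra.adjoin Γ(B.left, ⊤) (gens : Set Γ(A.c.pt.left, ⊤)) := hgens ▸ trivial
  have hv₁' : v.left ≫ (pullback.fst β (q k)).left = u.left := congrArg (fun g => g.left) hv₁
  have hv₂' : v.left ≫ (pullback.snd β (q k)).left = (A.c.π.app k).left :=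
    congrArg (fun g => g.left) hv₂
  induction hc using Algebra.adjoin_induction with
  | mem c hc =>
    obtain ⟨m⟩ := hk (X := st c) (Finset.mem_image_of_mem st hc)
    refine ⟨(pullback.snd β (q k)).left.appTop ((A.D.map m).left.appTop (y c)), ?_⟩
    rw [← CommRingCat.comp_apply, ← Scheme.Hom.comp_appTop, hv₂', ← CommRingCat.comp_apply,
      ← Scheme.Hom.comp_appTop]
    have e : (A.c.π.app k).left ≫ (A.D.map m).left = (A.c.π.app (st c)).left := by
      rw [← Over.comp_left, A.c.w m]
    rw [e]
    exact hy c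
  | algebraMap a =>
    refine ⟨(pullback.fst β (q k)).left.appTop a, ?_⟩
    rw [← CommRingCat.comp_apply, ← Scheme.Hom.comp_appTop, hv₁']
    rfl
  | add x y _ _ hx hy =>
    obtain ⟨x, rfl⟩ := hx
    obtain ⟨y, rfl⟩ := hy
    exact ⟨x + y, map_add _ _ _⟩
  | mul x y _ _ hx hy =>
    obtain ⟨x, rfl⟩ := hx
    obtain ⟨y, rfl⟩ := hy
    exact ⟨x * y, map_mul _ _ _⟩

variable [QuasiSeparatedSpace S]

/-- A finite type space over a limit is a closed subspace of the base change of a stage model. -/
theorem exists_good {B Di : Sp S} (hB : IsAlgSpace B) (hDi : IsAlgSpace Di)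
    (hDis : IsQuasiSeparatedSp Di) (hDic : IsQuasiCompactSp Di) (π : B ⟶ Di) (hπ : IsAffineMor π)
    (X : AlgSp.Space S) (a : X.obj ⟶ B) (haqs : IsQuasiSeparatedMor a) (hft : IsFiniteTypeMor a) :
    ∃ (W : AlgSp.Space S) (w : W.obj ⟶ Di) (b : X.obj ⟶ W.obj),
      IsFiniteTypeMor w ∧ b ≫ w = a ≫ π ∧
      ∀ (P : Sp S) (fst : P ⟶ B) (snd : P ⟶ W.obj), IsPullback fst snd π w →
        ∀ k : X.obj ⟶ P, k ≫ fst = a → k ≫ snd = b → RepWith @IsClosedImmersion k := by
  have hBc : IsQuasiCompactSp B := isQuasiCompactSp_of_affineMor hB hπ hDi hDic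
  have hBs : IsQuasiSeparatedSp B := isQuasiSeparatedSp_of_affineMor hB hπ hDis
  have hXc : IsQuasiCompactSp X.obj :=
    hft.2 hB hBc (𝟙 B) (𝟙 _) a (IsPullback.of_horiz_isIso ⟨by simp⟩)
  have hXs : IsQuasiSeparatedSp X.obj := isQuasiSeparatedSp_of_mor haqs hBs
  obtain ⟨I, hI, hI', hIne, D, t, c, hc, e, hD, hDa, hDqc, ht, hte⟩ :=
    exists_limit_fp X.property hXc hXs hDi hDis (a ≫ π)
  let cX : Cone D :=
    { pt := X.obj
      π :=
        { app := fun k => e.inv ≫ c.π.app k
          naturality := fun k l m => by simp [c.w m] } }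
  have hcX : IsLimit cX := hc.ofIsoLimit (Cone.ext e fun k => by simp [cX])
  have hcπ : ∀ k, cX.π.app k ≫ t.app k = a ≫ π := fun k =>
    (Category.assoc _ _ _).trans (hte k)
  obtain ⟨k₀⟩ := IsCofiltered.nonempty (C := Iᵒᵖ)
  obtain ⟨T, g, hT, hg, hgs⟩ := exists_affine_chart (hD k₀) (hDqc k₀).1
  obtain ⟨P⟩ := nonempty_pullSys D hDa hcX k₀ g
  obtain ⟨BT, β, fb, sqB, hBT⟩ := hπ hT (g ≫ t.app k₀)
  have hsu : (P.top ≫ a) ≫ π = (yon S).map P.bot ≫ g ≫ t.app k₀ := by
    rw [Category.assoc, ← hcπ k₀, ← Category.assoc]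
    exact (congrArg (· ≫ t.app k₀) P.sqTop.w).trans (Category.assoc _ _ _)
  obtain ⟨u, hu⟩ := (yon S).map_surjective (sqB.lift (P.top ≫ a) ((yon S).map P.bot) hsu)
  have huβ : u ≫ β = P.bot := (yon S).map_injective (by
    rw [Functor.map_comp, hu, sqB.lift_snd])
  have hufb : (yon S).map u ≫ fb = P.top ≫ a := by rw [hu, sqB.lift_fst]
  -- `u` is of finite type
  let Q₀ := pullback π (t.app k₀)
  have hQ₀ : IsAlgSpace Q₀ :=
    isAlgSpace_of_isPullback (IsPullback.of_hasPullback π (t.app k₀)) hDi.diag hB (hD k₀)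
  let h₀ : X.obj ⟶ Q₀ := pullback.lift a (cX.π.app k₀) (hcπ k₀).symm
  let γ : (yon S).obj BT ⟶ Q₀ := pullback.lift fb ((yon S).map β ≫ g) (by
    rw [sqB.w, Category.assoc])
  have sqγ : IsPullback γ ((yon S).map β) (pullback.snd π (t.app k₀)) g := by
    refine IsPullback.of_right ?_ (pullback.lift_snd _ _ _) (IsPullback.of_hasPullback π (t.app k₀))
    rw [pullback.lift_fst]
    exact sqB
  have hγ : RepWith @Etale γ := repWith_of_isPullback sqγ.flip hg
  have hh₀ : LocP @LocallyOfFiniteType h₀ := by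
    refine locP_of_comp_of_cancel' (Q := @LocallyOfFiniteType) (fun A' B' C' k l hkl hl => ?_)
      X.property hQ₀ hB (g := pullback.fst π (t.app k₀)) (by rw [pullback.lift_fst]; exact hft.1)
      (locP_of_isPullback (hD k₀) hDi hB (IsPullback.of_hasPullback π (t.app k₀)).flip
        (locP_mono (P := @LocallyOfFinitePresentation)
          (fun _ _ k (_ : LocallyOfFinitePresentation k) => (inferInstance : LocallyOfFiniteType k))
          (ht k₀).1))
    have := hkl
    exact locallyOfFiniteType_of_comp k l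
  have hlft : LocallyOfFiniteType u.left := hh₀ P.top γ u (P.repWith_top hg) hγ (by
    refine pullback.hom_ext ?_ ?_
    · simp only [h₀, γ, Category.assoc, pullback.lift_fst, hufb]
    · simp only [h₀, γ, Category.assoc, pullback.lift_snd]
      rw [← Functor.map_comp_assoc, huβ]
      exact P.sqTop.w)
  have : IsAffine BT.left := hBT
  haveI := P.aff
  obtain ⟨k, hk⟩ := exists_closedImmersion_stage P.affSys P.q β u
    (fun k => huβ.trans (P.π_q k).symm) hlft
  let kk := k.left
  let Q := pullback π (t.app kk)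
  let h : X.obj ⟶ Q := pullback.lift a (cX.π.app kk) (hcπ kk).symm
  let Y := pullback β (P.q k)
  let v : P.L.pt ⟶ Y := pullback.lift u (P.L.π.app k) (huβ.trans (P.π_q k).symm)
  have hv : IsClosedImmersion v.left := hk v (pullback.lift_fst _ _ _) (pullback.lift_snd _ _ _)
  let γk : (yon S).obj Y ⟶ Q := pullback.lift ((yon S).map (pullback.fst β (P.q k)) ≫ fb)
    ((yon S).map (pullback.snd β (P.q k)) ≫ P.p k) (by
      rw [Category.assoc, sqB.w, ← Functor.map_comp_assoc, pullback.condition, Category.assoc]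
      have : P.p k ≫ t.app kk = (yon S).map (P.q k) ≫ g ≫ t.app k₀ := by
        rw [← Category.assoc, ← (P.sq k).w, Category.assoc]
        exact congrArg (P.p k ≫ ·) ((t.naturality k.hom).trans (Category.comp_id _)).symm
      rw [this, Functor.map_comp_assoc])
  have sqk : IsPullback γk ((yon S).map (pullback.snd β (P.q k))) (pullback.snd π (t.app kk)) (P.p k) := by
    refine IsPullback.of_right ?_ (pullback.lift_snd _ _ _) (IsPullback.of_hasPullback π (t.app kk))
    rw [pullback.lift_fst]
    have h1 := ((IsPullback.of_hasPullback β (P.q k)).map (yon S)).paste_horiz sqB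
    have e : P.p k ≫ t.app kk = (yon S).map (P.q k) ≫ g ≫ t.app k₀ := by
      rw [← Category.assoc, ← (P.sq k).w, Category.assoc]
      exact congrArg (P.p k ≫ ·) ((t.naturality k.hom).trans (Category.comp_id _)).symm
    rw [e]
    refine IsPullback.flip ?_
    exact (((IsPullback.of_hasPullback β (P.q k)).map (yon S)).flip.paste_vert sqB.flip)
  have sqv : IsPullback P.top ((yon S).map v) h γk := by
    refine IsPullback.of_bot ?_ ?_ sqk
    · rw [pullback.lift_snd, ← Functor.map_comp, pullback.lift_snd]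
      exact P.sq_π k
    · refine pullback.hom_ext ?_ ?_
      · simp only [h, γk, Category.assoc, pullback.lift_fst]
        rw [← Functor.map_comp_assoc, pullback.lift_fst, hufb]
      · simp only [h, γk, Category.assoc, pullback.lift_snd]
        rw [← Functor.map_comp_assoc, pullback.lift_snd]
        exact P.top_π k
  have hQ : IsAlgSpace Q :=
    isAlgSpace_of_isPullback (IsPullback.of_hasPullback π (t.app kk)) hDi.diag hB (hD kk)
  have hsnd : IsAffineMor (pullback.snd π (t.app kk)) :=
    isAffineMor_of_isPullback (IsPullback.of_hasPullback π (t.app kk)) hπ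
  have hh : IsAffineMor h := by
    refine isAffineMor_of_comp h (pullback.snd π (t.app kk)) ?_ ?_
    · rw [pullback.lift_snd]
      exact isAffineMor_π D hDa hcX kk
    · exact isAffineMor_iff_repWith.2 (repWith_mono
        (fun _ _ k (_ : IsClosedImmersion k) => (inferInstance : IsAffineHom k))
        (repWith_diagonal_of_isAffineMor hQ hsnd))
  have hγk : RepWith @Etale γk := repWith_of_isPullback sqk.flip (P.repWith_p hg k)
  have hγks : RepWith @Surjective γk := repWith_of_isPullback sqk.flip (P.repWith_p hgs k)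
  have := isLocallySurjective_of_etale γk hγk hγks
  have hhc : RepWith @IsClosedImmersion h := repWith_of_isLocallySurjective h
    (isAffineMor_iff_repWith.1 hh).rep γk _ _ sqv ((repWith_yon_map_iff _ v).2 hv)
  refine ⟨⟨D.obj kk, hD kk⟩, t.app kk, cX.π.app kk, ⟨locP_mono (P := @LocallyOfFinitePresentation)
    (fun _ _ k (_ : LocallyOfFinitePresentation k) => (inferInstance : LocallyOfFiniteType k))
    (ht kk).1, (ht kk).2.1⟩, hcπ kk, fun P' fst snd sq k' hk₁ hk₂ => ?_⟩
  have : k' = h ≫ sq.isoPullback.inv := by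
    refine sq.hom_ext ?_ ?_
    · rw [Category.assoc, sq.isoPullback_inv_fst, pullback.lift_fst, hk₁]
    · rw [Category.assoc, sq.isoPullback_inv_snd, pullback.lift_snd, hk₂]
  rw [this]
  exact MorphismProperty.RespectsIso.postcomp _ _ _ hhc

end

end Groth.AlgSp2.GoodDiagram
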